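import Cfsg.Agent.H537.Pw.WC
import Cfsg.Agent.KFacts.RgdChevCoord

/-!
# `D.group K` (`F₄(q)`, ...): every nontrivial element of `p`-power order has a conjugate in `U` outside `V_J` or
outside `V_J'` (helper537)
-/

set_option autoImplicit false
set_option linter.unusedSectionVars false

namespace Cfsg.Agent.H537.Pw

open CoxeterSystem Cfsg.Agent.ChevalleyStructure.CoxeterGeom Cfsg.Agent.Tits.Roots Cfsg.Agent.Tits.Core
  Cfsg.Agent.Nodes.Reps Cfsg.Agent.Nodes.BNOf Cfsg.Agent.Nodes.RGDLib Cfsg.Agent.Nodes.Bruhat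
  Cfsg.Agent.Nodes.OppDec Cfsg.Agent.Nodes.LeviDec
open Cfsg.Lie Cfsg.Agent.ChevalleyStructure Cfsg.Agent.ChevalleyStructure.CoxeterGeomTypes
  Cfsg.Agent.Nodes.RGDChev Cfsg.Agent.KFacts.RgdChevCoord

universe u

variable {K : Type u} [Field K] {D : ChevalleyDatum} {l : ℕ} {M : CoxeterMatrix (Fin l)} (hp : IsType D l M)

theorem exists_conj_notMem_chev [Finite K] {r : ℕ} [Fact r.Prime] [CharP K r] (hl : 0 < l)
    (hs : IsSimpleGroup ↥(D.group K)) {J J1 : Set (Fin l)} (hJ : ∀ i, i ∈ J ∨ i ∈ J1)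
    {g : ↥(D.group K)} (hg1 : g ≠ 1) {k : ℕ} (hg : g ^ r ^ k = 1) :
    ∃ x : ↥(D.group K), x * g * x⁻¹ ∈ RGD.Sup (XX D l K) (RGD.Pos M.toCoxeterSystem hp.isCartan) ∧
      (x * g * x⁻¹ ∉ VJ M.toCoxeterSystem hp.isCartan (XX D l K) J ∨
        x * g * x⁻¹ ∉ VJ M.toCoxeterSystem hp.isCartan (XX D l K) J1) := by
  have R := Cfsg.Agent.Nodes.RGDChev.rgd (K := K) hp M.toCoxeterSystem r
  have := finite_W hp M.toCoxeterSystem
  have : Nonempty (Fin l) := ⟨⟨0, hl⟩⟩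
  have hG1 := G1_eq_top hp (K := K) M.toCoxeterSystem
  have hG : GG M.toCoxeterSystem hp.isCartan ((D.diagonalSubgroup K).subgroupOf (D.group K)) (XX D l K) = ⊤ := by
    rw [eq_top_iff, ← hG1]
    exact le_sup_right
  exact exists_conj_notMem_VJ R hG hs hJ hg1 hg

theorem isType_F4 : IsType chevF4 4 CoxeterMatrix.F₄ := by simp

/-- **`F₄(q)`** -/
theorem exists_conj_notMem_F4 [Finite K] {r : ℕ} [Fact r.Prime] [CharP K r]
    (hs : IsSimpleGroup ↥(chevF4.group K)) {J J1 : Set (Fin 4)} (hJ : ∀ i, i ∈ J ∨ i ∈ J1)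
    {g : ↥(chevF4.group K)} (hg1 : g ≠ 1) {k : ℕ} (hg : g ^ r ^ k = 1) :
    ∃ x : ↥(chevF4.group K), x * g * x⁻¹ ∈ RGD.Sup (XX chevF4 4 K)
        (RGD.Pos CoxeterMatrix.F₄.toCoxeterSystem isType_F4.isCartan) ∧
      (x * g * x⁻¹ ∉ VJ CoxeterMatrix.F₄.toCoxeterSystem isType_F4.isCartan (XX chevF4 4 K) J ∨
        x * g * x⁻¹ ∉ VJ CoxeterMatrix.F₄.toCoxeterSystem isType_F4.isCartan (XX chevF4 4 K) J1) :=
  exists_conj_notMem_chev isType_F4 (by norm_num) hs hJ hg1 hg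

end Cfsg.Agent.H537.Pw
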