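import Cfsg.Agent.H537.EP.OfMJ

/-!
# A class of `r`-elements is not inside the radicals of two parabolic subgroups (helper537)

`exists_conj_notMem_VJ` : in a finite group `Y` with a root group datum and without nontrivial proper normal
subgroups, every nontrivial `r`-element has a conjugate in `U` which lies outside `V_J` or outside `V_J'`,
whenever `J ∪ J' = univ`.
-/

set_option autoImplicit false
set_option linter.unusedSectionVars false

namespace Cfsg.Agent.H537.Pw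

open CoxeterSystem Cfsg.Agent.ChevalleyStructure.CoxeterGeom Cfsg.Agent.Tits.Roots Cfsg.Agent.Tits.Core
  Cfsg.Agent.Tits.Exchange Cfsg.Agent.Nodes.Reps Cfsg.Agent.Nodes.BNOf Cfsg.Agent.Nodes.StabComb
  Cfsg.Agent.Nodes.Bruhat Cfsg.Agent.Nodes.OppDec Cfsg.Agent.Nodes.LeviDec Cfsg.Agent.H53.HC
open scoped Pointwise

universe u

variable {I W : Type*} {Y : Type u} [Fintype I] [DecidableEq I] [Group W] [Group Y] {M : CoxeterMatrix I}
  {cs : CoxeterSystem M W} {A : I → I → ℤ} {h : IsCartan M A} {r : ℕ} {T : Subgroup Y} {n : I → Y}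
  {X : (I → ℤ) → Subgroup Y}

section
variable (R : RGD cs h r T n X)

include R

/-- two parabolic subgroups with `J ∪ J' = univ` generate `Y` -/
theorem eq_top_of_PJ_le [Finite W] (hG : GG cs h T X = ⊤) {J J1 : Set I} (hJ : ∀ i, i ∈ J ∨ i ∈ J1)
    {P : Subgroup Y} (h1 : PJ cs h T X J ≤ P) (h2 : PJ cs h T X J1 ≤ P) : P = ⊤ := by
  rw [eq_top_iff]
  intro x _
  obtain ⟨w, b₁, hb₁, k, hk, b₂, hb₂, rfl⟩ := (mem_GG R).1 (show x ∈ GG cs h T X by rw [hG]; exact Subgroup.mem_top x)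
  have hB : RGD.B cs h T X ≤ P := le_trans B_le_PJ h1
  have hn : ∀ i, n i ∈ P := by
    intro i
    rcases hJ i with hi | hi
    · exact h1 (LJ_le_PJ (n_mem_LJ R hi))
    · exact h2 (LJ_le_PJ (n_mem_LJ R hi))
  obtain ⟨g, hg, hgw⟩ := exists_rp_closure (cs := cs) (hN := R.nsys) w
  have hg' : g ∈ P := by
    refine (Subgroup.closure_le P).2 ?_ hg
    rintro _ ⟨i, rfl⟩
    exact hn i
  have hk' : k = g * (g⁻¹ * k) := by group
  have hkP : k ∈ P := by
    rw [hk']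
    exact mul_mem hg' (hB (RGD.T_le_B (hgw.unique hk)))
  exact mul_mem (mul_mem (hB hb₁) hkP) (hB hb₂)

theorem U_ne_top [Finite W] [Nonempty I] : RGD.Sup X (RGD.Pos cs h) ≠ ⊤ := by
  intro hU
  obtain ⟨i⟩ := ‹Nonempty I›
  refine R.not_neg_le_B i ?_
  exact le_trans (hU ▸ le_top) RGD.U_le_B

/-- every nontrivial `r`-element has a conjugate in `U` outside `V_J` or outside `V_J'` -/
theorem exists_conj_notMem_VJ [Finite Y] [Finite W] [Nonempty I] [Fact r.Prime] (hG : GG cs h T X = ⊤)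
    (hS : IsSimpleGroup Y)
    {J J1 : Set I} (hJ : ∀ i, i ∈ J ∨ i ∈ J1)
    {g : Y} (hg1 : g ≠ 1) {k : ℕ} (hg : g ^ r ^ k = 1) :
    ∃ x : Y, x * g * x⁻¹ ∈ RGD.Sup X (RGD.Pos cs h) ∧
      (x * g * x⁻¹ ∉ VJ cs h X J ∨ x * g * x⁻¹ ∉ VJ cs h X J1) := by
  classical
  by_contra hcon
  push Not at hcon
  let A : Subgroup Y := Subgroup.closure {y | y ∈ RGD.Sup X (RGD.Pos cs h) ∧ ∃ x, y = x * g * x⁻¹}
  -- normalised by the two parabolic subgroups
  have hkey : ∀ {K : Set I}, (∀ x : Y, x * g * x⁻¹ ∈ RGD.Sup X (RGD.Pos cs h) → x * g * x⁻¹ ∈ VJ cs h X K) →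
      ∀ p ∈ PJ cs h T X K, ∀ a ∈ A, p * a * p⁻¹ ∈ A := by
    intro K hK p hp a ha
    have h1 : A ≤ A.comap (MulAut.conj p).toMonoidHom := by
      refine (Subgroup.closure_le _).2 ?_
      rintro y ⟨hy, x, rfl⟩
      refine Subgroup.subset_closure ⟨?_, p * x, ?_⟩
      · exact VJ_le_U K ((Subgroup.mem_normalizer_iff.1 (PJ_le_normalizer_VJ R K hp) _).1 (hK x hy))
      · change p * (x * g * x⁻¹) * p⁻¹ = _
        group
    exact h1 ha
  have hPN : ∀ {K : Set I}, (∀ x : Y, x * g * x⁻¹ ∈ RGD.Sup X (RGD.Pos cs h) → x * g * x⁻¹ ∈ VJ cs h X K) →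
      PJ cs h T X K ≤ Subgroup.normalizer (A : Set Y) := by
    intro K hK p hp
    rw [Subgroup.mem_normalizer_iff]
    intro a
    refine ⟨hkey hK p hp a, fun ha => ?_⟩
    have h2 := hkey hK p⁻¹ (inv_mem hp) _ ha
    have h3 : p⁻¹ * (p * a * p⁻¹) * p⁻¹⁻¹ = a := by group
    rwa [h3] at h2
  have htop := eq_top_of_PJ_le R hG hJ (hPN fun x hx => (hcon x hx).1) (hPN fun x hx => (hcon x hx).2)
  have hAn : A.Normal := Subgroup.normalizer_eq_top_iff.1 htop
  have hAU : A ≤ RGD.Sup X (RGD.Pos cs h) := (Subgroup.closure_le _).2 fun y hy => hy.1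
  obtain ⟨S, hSU⟩ := H537.EP.exists_sylow_U R hG
  have hp : IsPGroup r ↥(Subgroup.zpowers g) := by
    intro ⟨y, hy⟩
    obtain ⟨m, rfl⟩ := Subgroup.mem_zpowers_iff.1 hy
    refine ⟨k, Subtype.ext ?_⟩
    change (g ^ m) ^ r ^ k = 1
    rw [← zpow_natCast, ← zpow_mul, mul_comm, zpow_mul, zpow_natCast, hg, one_zpow]
  obtain ⟨Q, hQ⟩ := hp.exists_le_sylow
  obtain ⟨x, hx⟩ := MulAction.exists_smul_eq Y Q S
  have hxU : x * g * x⁻¹ ∈ RGD.Sup X (RGD.Pos cs h) := by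
    rw [← hSU, ← hx, Sylow.smul_def, Sylow.pointwise_smul_def, Subgroup.mem_pointwise_smul_iff_inv_smul_mem,
      ← map_inv, MulAut.smul_def, MulAut.conj_apply, inv_inv]
    have h3 : x⁻¹ * (x * g * x⁻¹) * x = g := by group
    rw [h3]
    exact hQ (Subgroup.mem_zpowers g)
  have hxA : x * g * x⁻¹ ∈ A := Subgroup.subset_closure ⟨hxU, x, rfl⟩
  rcases hAn.eq_bot_or_eq_top with h0 | h0
  · rw [h0, Subgroup.mem_bot] at hxA
    refine hg1 ?_
    have h4 : g = x⁻¹ * (x * g * x⁻¹) * x := by group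
    rw [h4, hxA]
    group
  · exact U_ne_top R (eq_top_iff.2 (h0 ▸ hAU))

end

end Cfsg.Agent.H537.Pw
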